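import Mathlib.RingTheory.Smooth.Basic
import Mathlib.RingTheory.Smooth.Flat
import Mathlib.RingTheory.Etale.Kaehler
import Mathlib.RingTheory.Finiteness.Nakayama
import Mathlib.LinearAlgebra.TensorProduct.Basis
import Mathlib.LinearAlgebra.Matrix.NonsingularInverse
import Mathlib.RingTheory.FinitePresentation
import Mathlib.RingTheory.Localization.Ideal

/-!
# Smooth quotients cut out by an idempotent family of equations
-/

set_option autoImplicit false

universe u

open KaehlerDifferential

namespace Groth.L05.SmoothLift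

/-- Equations `G = E G` with `E` in the image of the Jacobian define a formally smooth quotient. -/
theorem formallySmooth_quotient {R S : Type u} [CommRing R] [CommRing S] [Algebra R S]
    [Algebra.FormallySmooth R S] {ι τ : Type} [Fintype ι] [Fintype τ]
    (b : Module.Basis ι S Ω[S⁄R]) (G : τ → S) (E : Matrix τ τ S) (W : Matrix ι τ S)
    (hG : ∀ s, ∑ t, E s t * G t = G s)
    (hW : ∀ s t, ∑ i, b.repr (D R S (G s)) i * W i t - E s t ∈ Ideal.span (Set.range G)) :
    Algebra.FormallySmooth R (S ⧸ Ideal.span (Set.range G)) := by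
  refine Algebra.FormallySmooth.of_comp_surjective fun T _ _ N hN u => ?_
  obtain ⟨v, hv⟩ := Algebra.FormallySmooth.comp_surjective R S N hN
    (u.comp (Ideal.Quotient.mkₐ R (Ideal.span (Set.range G))))
  have hv' : ∀ k ∈ Ideal.span (Set.range G), v k ∈ N := fun k hk => by
    rw [← Ideal.Quotient.eq_zero_iff_mem]
    refine (DFunLike.congr_fun hv k).trans ?_
    show u (Ideal.Quotient.mk _ k) = 0
    rw [Ideal.Quotient.eq_zero_iff_mem.mpr hk, map_zero]
  have hNN : ∀ x ∈ N, ∀ y ∈ N, x * y = 0 := fun x hx y hy => by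
    have := Ideal.mul_mem_mul hx hy
    rwa [← pow_two, hN, Ideal.mem_bot] at this
  have hr : ∀ t, v (G t) ∈ N := fun t => hv' _ (Ideal.subset_span ⟨t, rfl⟩)
  letI : Algebra S T := v.toRingHom.toAlgebra
  haveI : IsScalarTower R S T := IsScalarTower.of_algebraMap_eq fun x => (v.commutes x).symm
  let c : ι → T := fun i => -∑ t, v (W i t) * v (G t)
  let l : Ω[S⁄R] →ₗ[S] T := b.constr S c
  let δ : S →ₗ[R] T := (l.restrictScalars R).comp (D R S).toLinearMap
  have hδ : ∀ x, δ x = ∑ i, v (b.repr (D R S x) i) * c i := fun x => by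
    show b.constr S c (D R S x) = _
    rw [Module.Basis.constr_apply_fintype]
    exact Finset.sum_congr rfl fun i _ => by
      rw [Module.Basis.equivFun_apply, Algebra.smul_def]; rfl
  have hδN : ∀ x, δ x ∈ N := fun x => by
    rw [hδ]
    exact sum_mem fun i _ => Ideal.mul_mem_left _ _ (neg_mem (sum_mem fun t _ => Ideal.mul_mem_left _ _ (hr t)))
  have hδmul : ∀ x y, δ (x * y) = v x * δ y + v y * δ x := fun x y => by
    show l (D R S (x * y)) = v x * l (D R S y) + v y * l (D R S x)
    rw [Derivation.leibniz, map_add, map_smul, map_smul, Algebra.smul_def, Algebra.smul_def]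
    rfl
  let v' : S →ₐ[R] T := AlgHom.ofLinearMap (v.toLinearMap + δ)
    (by
      show v 1 + δ 1 = 1
      have h1 : δ 1 = 0 := by
        show l (D R S 1) = 0
        rw [Derivation.map_one_eq_zero, map_zero]
      rw [h1, map_one, add_zero])
    (fun x y => by
      show v (x * y) + δ (x * y) = (v x + δ x) * (v y + δ y)
      rw [map_mul, hδmul, add_mul, mul_add, mul_add, hNN _ (hδN x) _ (hδN y)]
      ring)
  have hv'G : ∀ s, v' (G s) = 0 := fun s => by
    show v (G s) + δ (G s) = 0
    rw [hδ]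
    have h1 : ∑ i, v (b.repr (D R S (G s)) i) * c i =
        -∑ t, v (∑ i, b.repr (D R S (G s)) i * W i t) * v (G t) := by
      simp only [c, mul_neg, Finset.sum_neg_distrib, Finset.mul_sum, map_sum, map_mul, Finset.sum_mul]
      rw [Finset.sum_comm]
      simp only [mul_assoc]
    have h2 : ∀ t, v (∑ i, b.repr (D R S (G s)) i * W i t) * v (G t) = v (E s t * G t) := fun t => by
      have := hNN _ (hv' _ (hW s t)) _ (hr t)
      rw [map_sub, sub_mul, sub_eq_zero] at this
      rw [this, map_mul]
    rw [h1, Finset.sum_congr rfl fun t _ => h2 t, ← map_sum, hG, add_neg_cancel]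
  refine ⟨Ideal.Quotient.liftₐ _ v' fun x hx => ?_, Ideal.Quotient.algHom_ext _ (AlgHom.ext fun x => ?_)⟩
  · have hle : Ideal.span (Set.range G) ≤ RingHom.ker v' :=
      Ideal.span_le.mpr (by rintro _ ⟨t, rfl⟩; exact hv'G t)
    exact hle hx
  · show Ideal.Quotient.mk N (v x + δ x) = u (Ideal.Quotient.mk _ x)
    rw [map_add, Ideal.Quotient.eq_zero_iff_mem.mpr (hδN x), add_zero]
    exact DFunLike.congr_fun hv x

/-- A basis of differentials transports along étale maps. -/
theorem exists_basis_etale {R L Q : Type u} [CommRing R] [CommRing L] [CommRing Q] [Algebra R L]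
    [Algebra L Q] [Algebra R Q] [IsScalarTower R L Q] [Algebra.FormallyEtale L Q] {ι : Type}
    (b : Module.Basis ι L Ω[L⁄R]) :
    ∃ b' : Module.Basis ι Q Ω[Q⁄R], ∀ x i,
      b'.repr (D R Q (algebraMap L Q x)) i = algebraMap L Q (b.repr (D R L x) i) := by
  refine ⟨(b.baseChange Q).map (tensorKaehlerEquivOfFormallyEtale R L Q), fun x i => ?_⟩
  rw [Module.Basis.map_repr, LinearEquiv.trans_apply, tensorKaehlerEquivOfFormallyEtale_symm_D_algebraMap,
    Module.Basis.baseChange_repr_tmul, Algebra.algebraMap_eq_smul_one]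

theorem exists_away_extend {R L A₀ : Type u} [CommRing R] [CommRing L] [CommRing A₀] [Algebra R L]
    [Algebra R A₀] (σ : L →ₐ[R] A₀) (hσ : Function.Surjective σ) (d : L) (hd : σ d = 1) :
    ∃ σ' : Localization.Away d →ₐ[R] A₀, (∀ x, σ' (algebraMap L _ x) = σ x) ∧ Function.Surjective σ' ∧
      RingHom.ker σ' = (RingHom.ker σ).map (algebraMap L (Localization.Away d)) := by
  let σ' : Localization.Away d →ₐ[R] A₀ := IsLocalization.liftAlgHom (M := Submonoid.powers d) (f := σ)
    fun ⟨y, k, hy⟩ => by subst hy; simp [hd]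
  have h : ∀ x, σ' (algebraMap L _ x) = σ x := fun x => by simp [σ']
  refine ⟨σ', h, fun a => ?_, le_antisymm (fun z hz => ?_) (Ideal.map_le_iff_le_comap.mpr fun x hx => ?_)⟩
  · obtain ⟨x, rfl⟩ := hσ a
    exact ⟨_, h x⟩
  · obtain ⟨⟨y, s⟩, hys⟩ := IsLocalization.surj (Submonoid.powers d) z
    have hy : y ∈ RingHom.ker σ := by
      rw [RingHom.mem_ker, ← h, ← hys, map_mul, show σ' z = 0 from hz, zero_mul]
    have h1 := Ideal.mem_map_of_mem (algebraMap L (Localization.Away d)) hy
    rwa [← hys, mul_comm, Ideal.unit_mul_mem_iff_mem _ (IsLocalization.map_units _ s)] at h1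
  · rw [Ideal.mem_comap, RingHom.mem_ker, h]
    exact hx

variable {R : Type u} [CommRing R] (I : Ideal R) {A₀ : Type u} [CommRing A₀] [Algebra R A₀]

/-- The lift cut out by `E F` after shrinking. -/
theorem exists_smooth_quotient {L : Type u} [CommRing L] [Algebra R L] [Algebra.FormallySmooth R L]
    [Algebra.FinitePresentation R L] {n m : ℕ} (b : Module.Basis (Fin n) L Ω[L⁄R]) (F : Fin m → L)
    (σ : L →ₐ[R] A₀) (hσ : Function.Surjective σ)
    (hker : RingHom.ker σ = I.map (algebraMap R L) ⊔ Ideal.span (Set.range F))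
    (E : Matrix (Fin m) (Fin m) L) (hE : E * E = E) (W : Matrix (Fin n) (Fin m) L)
    (hJW : ∀ s t, σ (∑ i, b.repr (D R L (F s)) i * W i t) = σ (E s t))
    (hEJ : ∀ s i, ∑ t, σ (E s t) * σ (b.repr (D R L (F t)) i) = σ (b.repr (D R L (F s)) i))
    (hK : ∀ s, F s - ∑ t, E s t * F t ∈ I.map (algebraMap R L) ⊔ Ideal.span (Set.range F) ^ 2) :
    ∃ (C : Type u) (_ : CommRing C) (_ : Algebra R C) (θ : C →ₐ[R] A₀), Algebra.Smooth R C ∧
      Function.Surjective θ ∧ RingHom.ker θ = I.map (algebraMap R C) := by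
  classical
  let G : Fin m → L := fun s => ∑ t, E s t * F t
  let K₁ : Ideal L := I.map (algebraMap R L) ⊔ Ideal.span (Set.range G)
  let J : Ideal L := Ideal.span (Set.range F)
  have hGJ : Ideal.span (Set.range G) ≤ J := Ideal.span_le.mpr fun _ ⟨s, hs⟩ =>
    hs ▸ sum_mem fun t _ => Ideal.mul_mem_left _ _ (Ideal.subset_span ⟨t, rfl⟩)
  have hσJ : ∀ x ∈ J, σ x = 0 := fun x hx => RingHom.mem_ker.mp (hker ▸ Ideal.mem_sup_right hx)
  obtain ⟨r, hr1, hr⟩ := Submodule.exists_sub_one_mem_and_smul_eq_zero_of_fg_of_le_smul J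
    (Submodule.map K₁.mkQ J) ((Submodule.fg_span (Set.finite_range F)).map _) (by
      rw [Submodule.map_le_iff_le_comap]
      refine Ideal.span_le.mpr ?_
      rintro _ ⟨s, rfl⟩
      obtain ⟨p, hp, q, hq, hpq⟩ := Submodule.mem_sup.mp (hK s)
      have hFs : F s = (p + ∑ t, E s t * F t) + q := by
        rw [← sub_add_cancel (F s) (∑ t, E s t * F t), ← hpq]; ring
      have hp' : K₁.mkQ (p + ∑ t, E s t * F t) = 0 := (Submodule.Quotient.mk_eq_zero _).mpr
        (add_mem (Ideal.mem_sup_left hp) (Ideal.mem_sup_right (Ideal.subset_span ⟨s, rfl⟩)))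
      show K₁.mkQ (F s) ∈ J • Submodule.map K₁.mkQ J
      rw [hFs, map_add, hp', zero_add, ← Submodule.map_smul'']
      refine Submodule.mem_map_of_mem ?_
      rwa [smul_eq_mul, ← pow_two])
  have hr' : ∀ x ∈ J, r * x ∈ K₁ := fun x hx => by
    have := hr _ (Submodule.mem_map_of_mem hx)
    rwa [← map_smul, Submodule.mkQ_apply, Submodule.Quotient.mk_eq_zero, smul_eq_mul] at this
  have hσr : σ r = 1 := by
    rw [← map_one σ, ← sub_eq_zero, ← map_sub]
    exact hσJ _ hr1
  let JG : Matrix (Fin m) (Fin n) L := Matrix.of fun s i => b.repr (D R L (G s)) i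
  let JF : Matrix (Fin m) (Fin n) L := Matrix.of fun s i => b.repr (D R L (F s)) i
  let Z : Matrix (Fin m) (Fin m) L := (1 - E) + E * JG * W * E
  let f : Matrix (Fin m) (Fin n) L → Matrix (Fin m) (Fin n) A₀ := fun M => M.map σ
  have hσJG : JG.map σ = JF.map σ := by
    ext s i
    show σ (b.repr (D R L (∑ t, E s t * F t)) i) = σ (b.repr (D R L (F s)) i)
    rw [← hEJ s i]
    simp only [map_sum, Derivation.leibniz, map_add, map_smul, Finsupp.coe_finsetSum, Finset.sum_apply,
      Finsupp.add_apply, Finsupp.smul_apply, smul_eq_mul, map_mul]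
    refine Finset.sum_congr rfl fun t _ => ?_
    rw [hσJ _ (Ideal.subset_span ⟨t, rfl⟩), zero_mul, add_zero]
  have hσJW : JF.map σ * W.map σ = E.map σ := by
    ext s t
    have := hJW s t
    simp only [map_sum, map_mul] at this
    exact this
  have hσE : E.map σ * E.map σ = E.map σ := by rw [← Matrix.map_mul, hE]
  have hσZ : Z.map σ = 1 := by
    show ((1 - E) + E * JG * W * E).map σ = 1
    rw [Matrix.map_add _ (map_add σ), Matrix.map_sub _ (map_sub σ), Matrix.map_one _ (map_zero σ) (map_one σ),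
      Matrix.map_mul, Matrix.map_mul, Matrix.map_mul, hσJG, Matrix.mul_assoc (E.map σ) (JF.map σ), hσJW, hσE, hσE,
      sub_add_cancel]
  have hσd : σ Z.det = 1 := by
    rw [AlgHom.map_det, AlgHom.mapMatrix_apply, hσZ, Matrix.det_one]
  let d : L := r * Z.det
  let L' := Localization.Away d
  obtain ⟨σ', hσ'a, hσ'surj, hker'⟩ := exists_away_extend σ hσ d (by rw [map_mul, hσr, hσd, one_mul])
  haveI : Algebra.Etale L L' := Algebra.Etale.of_isLocalizationAway d
  haveI : Algebra.FormallyEtale L L' := Algebra.Etale.formallyEtale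
  haveI : Algebra.FormallySmooth R L' := Algebra.FormallySmooth.comp R L L'
  haveI : Algebra.FinitePresentation L L' := IsLocalization.Away.finitePresentation d
  haveI : Algebra.FinitePresentation R L' := Algebra.FinitePresentation.trans R L L'
  obtain ⟨b', hb'⟩ := exists_basis_etale (Q := L') b
  let g := algebraMap L L'
  let G' : Fin m → L' := g ∘ G
  have hspan : Ideal.span (Set.range G') = (Ideal.span (Set.range G)).map g := by
    rw [Ideal.map_span, ← Set.range_comp]
  have hu : IsUnit (g d) := IsLocalization.Away.algebraMap_isUnit d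
  have hur : IsUnit (g r) := isUnit_of_dvd_unit (map_dvd g (dvd_mul_right r _)) hu
  have huZ : IsUnit (Z.map g).det := by
    rw [← RingHom.mapMatrix_apply, ← RingHom.map_det]
    exact isUnit_of_dvd_unit (map_dvd g (dvd_mul_left _ r)) hu
  let E' := E.map g
  let Zi := (Z.map g)⁻¹
  have hEG : ∀ s, ∑ t, E' s t * G' t = G' s := fun s => by
    show ∑ t, g (E s t) * g (G t) = g (G s)
    simp only [← map_mul, ← map_sum, G, Finset.mul_sum]
    rw [Finset.sum_comm]
    refine congrArg g (Finset.sum_congr rfl fun k _ => ?_)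
    simp only [← mul_assoc, ← Finset.sum_mul]
    rw [← Matrix.mul_apply, hE]
  let W' : Matrix (Fin n) (Fin m) L' := W.map g * E' * Zi
  have hEZ : E * Z = E * JG * W * E := by
    show E * ((1 - E) + E * JG * W * E) = _
    rw [Matrix.mul_add, Matrix.mul_sub, Matrix.mul_one, hE, sub_self, zero_add]
    simp only [← Matrix.mul_assoc, hE]
  have hZE : Z * E = E * JG * W * E := by
    show ((1 - E) + E * JG * W * E) * E = _
    rw [Matrix.add_mul, Matrix.sub_mul, Matrix.one_mul, hE, sub_self, zero_add, Matrix.mul_assoc, hE]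
  have hEJG : E' * JG.map g * W' = E' := by
    have h1 : E' * JG.map g * W.map g * E' = E' * Z.map g := by
      simp only [E', ← Matrix.map_mul, hEZ]
    show E' * JG.map g * (W.map g * E' * Zi) = E'
    rw [← Matrix.mul_assoc, ← Matrix.mul_assoc, h1, Matrix.mul_assoc, Matrix.mul_nonsing_inv _ huZ, Matrix.mul_one]
  have hJmem : ∀ s i, b'.repr (D R L' (G' s)) i - (E' * JG.map g) s i ∈ Ideal.span (Set.range G') := by
    intro s i
    have hs : G s = ∑ t, E s t * G t := by
      simp only [G, Finset.mul_sum]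
      rw [Finset.sum_comm]
      refine Finset.sum_congr rfl fun k _ => ?_
      simp only [← mul_assoc, ← Finset.sum_mul]
      rw [← Matrix.mul_apply, hE]
    have h1 : JG s i = ∑ t, (E s t * JG t i + G t * b.repr (D R L (E s t)) i) := by
      show b.repr (D R L (G s)) i = _
      conv_lhs => rw [hs]
      simp only [map_sum, Derivation.leibniz, map_add, map_smul, Finsupp.coe_finsetSum, Finset.sum_apply,
        Finsupp.add_apply, Finsupp.smul_apply, smul_eq_mul]
      rfl
    rw [show G' s = algebraMap L L' (G s) from rfl, hb', show b.repr (D R L (G s)) i = JG s i from rfl]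
    simp only [E', ← Matrix.map_mul, Matrix.map_apply]
    rw [← map_sub, hspan]
    refine Ideal.mem_map_of_mem _ ?_
    rw [h1, Matrix.mul_apply, ← Finset.sum_sub_distrib]
    refine sum_mem fun t _ => ?_
    rw [add_sub_cancel_left]
    exact Ideal.mul_mem_right _ _ (Ideal.subset_span ⟨t, rfl⟩)
  have hW' : ∀ s t, ∑ i, b'.repr (D R L' (G' s)) i * W' i t - E' s t ∈ Ideal.span (Set.range G') := by
    intro s t
    conv => enter [2, 2]; rw [← hEJG, Matrix.mul_apply]
    rw [← Finset.sum_sub_distrib]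
    refine sum_mem fun i _ => ?_
    rw [← sub_mul]
    exact Ideal.mul_mem_right _ _ (hJmem s i)
  haveI := formallySmooth_quotient b' G' E' W' hEG hW'
  haveI : Algebra.FinitePresentation R (L' ⧸ Ideal.span (Set.range G')) :=
    Algebra.FinitePresentation.quotient (Submodule.fg_span (Set.finite_range G'))
  have hkerG : RingHom.ker σ' = I.map (algebraMap R L') ⊔ Ideal.span (Set.range G') := by
    rw [hker', hker, Ideal.map_sup, Ideal.map_map, ← IsScalarTower.algebraMap_eq, hspan]
    refine le_antisymm (sup_le le_sup_left ?_) (sup_le le_sup_left ((Ideal.map_mono hGJ).trans le_sup_right))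
    refine Ideal.map_le_iff_le_comap.mpr fun x hx => ?_
    rw [Ideal.mem_comap, ← Ideal.unit_mul_mem_iff_mem _ hur, ← map_mul]
    have := Ideal.mem_map_of_mem g (hr' x hx)
    rwa [Ideal.map_sup, Ideal.map_map, ← IsScalarTower.algebraMap_eq] at this
  let θ : (L' ⧸ Ideal.span (Set.range G')) →ₐ[R] A₀ := Ideal.Quotient.liftₐ _ σ' fun x hx =>
    RingHom.mem_ker.mp (hkerG ▸ Ideal.mem_sup_right hx)
  refine ⟨_, inferInstance, inferInstance, θ, ⟨inferInstance, inferInstance⟩, fun a => ?_, ?_⟩
  · obtain ⟨x, rfl⟩ := hσ'surj a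
    exact ⟨Ideal.Quotient.mk _ x, rfl⟩
  · rw [IsScalarTower.algebraMap_eq R L' (L' ⧸ Ideal.span (Set.range G')), ← Ideal.map_map,
      Ideal.Quotient.algebraMap_eq]
    refine le_antisymm (fun z hz => ?_) (Ideal.map_le_iff_le_comap.mpr fun x hx => ?_)
    · obtain ⟨x, rfl⟩ := Ideal.Quotient.mk_surjective z
      have hx : x ∈ RingHom.ker σ' := hz
      rw [hkerG] at hx
      have := Ideal.mem_map_of_mem (Ideal.Quotient.mk (Ideal.span (Set.range G'))) hx
      rwa [Ideal.map_sup, Ideal.map_quotient_self, sup_bot_eq] at this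
    · exact RingHom.mem_ker.mp (hkerG ▸ Ideal.mem_sup_left hx : x ∈ RingHom.ker σ')

end Groth.L05.SmoothLift
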