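import Groth.Agent.L05.Hfp.Basic
import Groth.Agent.L05.Henselization.Pair
import Groth.Agent.L05.Hensel.Criteria
import Mathlib.LinearAlgebra.Matrix.Charpoly.Coeff
import Mathlib.RingTheory.AdjoinRoot

/-!
# Idempotent matrices lift to étale neighbourhoods
-/

set_option autoImplicit false

universe u

open Polynomial

namespace Groth.L05.SmoothLift

theorem exists_idempotent_matrix_hens {B : Type u} [CommRing B] (J : Ideal B) [HenselianRing B J] {m : ℕ}
    (e : Matrix (Fin m) (Fin m) B) (he : ∀ s t, (e * e - e) s t ∈ J) :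
    ∃ E : Matrix (Fin m) (Fin m) B, E * E = E ∧ ∀ s t, E s t - e s t ∈ J := by
  classical
  rcases Nat.eq_zero_or_pos m with rfl | hm
  · exact ⟨e, Subsingleton.elim _ _, fun s => s.elim0⟩
  nontriviality B
  let D := e * e - e
  let χ := D.charpoly
  let w : B[X] := X ^ 2 - X
  let q : B[X] := χ.comp w
  have hw : w.natDegree = 2 := by
    show (X ^ 2 - X : B[X]).natDegree = 2
    compute_degree!
  have hwm : w.Monic := by
    show (X ^ 2 - X : B[X]).Monic
    monicity!
  have hq : q.Monic := (Matrix.charpoly_monic D).comp hwm (by omega)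
  have hqe : aeval e q = 0 := by
    rw [show q = χ.comp w from rfl, aeval_comp, show aeval e w = D by simp [w, D, pow_two]]
    exact Matrix.aeval_self_charpoly D
  haveI : Module.Finite B (AdjoinRoot q) := hq.finite_adjoinRoot
  let h : B[X] := 1 - (1 - X ^ m) ^ m
  let JC := J.map (algebraMap B (AdjoinRoot q))
  have hχ : ∀ k, (χ - X ^ m).coeff k ∈ J := fun k => by
    rw [← Ideal.Quotient.eq_zero_iff_mem, ← coeff_map, Polynomial.map_sub, Polynomial.map_pow, map_X,
      ← Matrix.charpoly_map]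
    rw [show D.map (Ideal.Quotient.mk J) = 0 from Matrix.ext fun s t => Ideal.Quotient.eq_zero_iff_mem.mpr (he s t),
      Matrix.charpoly_zero, Fintype.card_fin, sub_self, coeff_zero]
  have hwq : aeval (AdjoinRoot.root q) (w ^ m) ∈ JC := by
    have h1 : aeval (AdjoinRoot.root q) ((χ - X ^ m).comp w) ∈ JC := by
      rw [aeval_comp, aeval_eq_sum_range]
      exact sum_mem fun k _ => by
        rw [Algebra.smul_def]
        exact Ideal.mul_mem_right _ _ (Ideal.mem_map_of_mem _ (hχ k))
    have h2 : w ^ m = q - (χ - X ^ m).comp w := by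
      rw [sub_comp, pow_comp, X_comp]; ring
    rw [h2, map_sub, AdjoinRoot.aeval_eq, AdjoinRoot.mk_self, zero_sub]
    exact neg_mem h1
  have hdvd : w ^ m ∣ h * h - h := by
    have h1 : X ^ m ∣ h := by
      have := sub_dvd_pow_sub_pow (1 : B[X]) (1 - X ^ m) m
      rwa [one_pow, sub_sub_cancel] at this
    have h2 : (1 - X) ^ m ∣ 1 - h := by
      rw [show (1 : B[X]) - h = (1 - X ^ m) ^ m from sub_sub_cancel _ _]
      refine pow_dvd_pow_of_dvd ?_ m
      have := sub_dvd_pow_sub_pow (1 : B[X]) X m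
      rwa [one_pow] at this
    rw [show h * h - h = -(h * (1 - h)) by ring, dvd_neg,
      show w = -(X * (1 - X)) from (by simp only [w]; ring), neg_pow, mul_pow]
    refine (IsUnit.mul_left_dvd ((isUnit_one.neg).pow m)).mpr ?_
    exact mul_dvd_mul h1 h2
  obtain ⟨ε, hε, hεu⟩ := Groth.L05.exists_idem_lift_of_finite J (AdjoinRoot.mk q h) (by
    obtain ⟨c, hc⟩ := hdvd
    rw [← map_mul, ← map_sub, hc, map_mul, ← AdjoinRoot.aeval_eq (w ^ m)]
    exact Ideal.mul_mem_right _ _ hwq)
  obtain ⟨ψ, rfl⟩ := AdjoinRoot.mk_surjective ε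
  have hψ : aeval e ψ * aeval e ψ = aeval e ψ := by
    obtain ⟨k, hk⟩ := AdjoinRoot.mk_eq_mk.mp ((map_mul (AdjoinRoot.mk q) ψ ψ).trans hε)
    rw [← map_mul, ← sub_eq_zero, ← map_sub, hk, map_mul, hqe, zero_mul]
  refine ⟨aeval e ψ, hψ, fun s t => ?_⟩
  have hJC : JC = (J.map (C : B →+* B[X])).map (AdjoinRoot.mk q) := by
    rw [Ideal.map_map]; rfl
  rw [← map_sub, show J.map (algebraMap B (AdjoinRoot q)) = JC from rfl, hJC,
    Ideal.mem_map_iff_of_surjective _ AdjoinRoot.mk_surjective] at hεu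
  obtain ⟨p, hp, hpe⟩ := hεu
  obtain ⟨k, hk⟩ := AdjoinRoot.mk_eq_mk.mp hpe
  let μ := (Ideal.Quotient.mkₐ B J).mapMatrix (m := Fin m)
  let ē := μ e
  have hid : ē * ē = ē := by
    rw [← map_mul, ← sub_eq_zero, ← map_sub]
    exact Matrix.ext fun s t => Ideal.Quotient.eq_zero_iff_mem.mpr (he s t)
  have hph : μ (aeval e p) = 0 := by
    rw [← aeval_algHom_apply, aeval_eq_sum_range]
    refine Finset.sum_eq_zero fun i _ => ?_
    rw [← algebraMap_smul (B ⧸ J) (p.coeff i) (μ e ^ i), Ideal.Quotient.algebraMap_eq,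
      Ideal.Quotient.eq_zero_iff_mem.mpr (Ideal.mem_map_C_iff.mp hp i), zero_smul]
  have hh : μ (aeval e ψ) = μ e := by
    have e1 : ψ = h + (p - q * k) := by rw [← hk]; ring
    rw [e1, map_add (aeval e), map_add μ, map_sub (aeval e) p, map_sub μ, hph, map_mul (aeval e) q, hqe,
      zero_mul, map_zero, sub_zero, add_zero, ← aeval_algHom_apply]
    simp only [h, map_sub, map_one, map_pow, aeval_X]
    have h1 : ∀ (x : Matrix (Fin m) (Fin m) (B ⧸ J)), x * x = x → ∀ {j : ℕ}, 0 < j → x ^ j = x := by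
      intro x hx j hj
      obtain ⟨j, rfl⟩ := Nat.exists_eq_succ_of_ne_zero hj.ne'
      exact IsIdempotentElem.pow_succ_eq j hx
    show 1 - (1 - ē ^ m) ^ m = ē
    rw [h1 ē hid hm, h1 (1 - ē) (IsIdempotentElem.one_sub hid) hm, sub_sub_cancel]
  exact Ideal.Quotient.eq.mp (congrFun (congrFun hh s) t)

open Groth.L05.Henselization in
theorem exists_idempotent_nbhd {P : Type u} [CommRing P] (I : Ideal P) {m : ℕ}
    (e : Matrix (Fin m) (Fin m) P) (he : ∀ s t, (e * e - e) s t ∈ I) :
    ∃ (S : Type u) (_ : CommRing S) (_ : Algebra P S) (σ : S →ₐ[P] P ⧸ I) (E : Matrix (Fin m) (Fin m) S),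
      Algebra.Etale P S ∧ RingHom.ker σ = I.map (algebraMap P S) ∧ E * E = E ∧
      ∀ s t, σ (E s t) = Ideal.Quotient.mk I (e s t) := by
  classical
  let B := PairHens P I
  have hB : Hens2.IsPairHenselization P I B := isPairHenselization P I
  haveI := hB.1
  let eB := e.map (algebraMap P B)
  obtain ⟨Eb, hEb, hEe⟩ := exists_idempotent_matrix_hens (I.map (algebraMap P B)) eB (fun s t => by
    have := Ideal.mem_map_of_mem (algebraMap P B) (he s t)
    rw [← Matrix.map_mul]
    rwa [Matrix.sub_apply, map_sub] at this)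
  obtain ⟨S₁, _, _, _, σ₁, g₁, hσ₁, hg₁⟩ := Groth.L05.Hfp.exists_nbhd_lift_finset hB
    (Finset.univ.image fun st : Fin m × Fin m => Eb st.1 st.2)
  choose y hy using fun s t => hg₁ (Eb s t) (Finset.mem_image_of_mem (fun st : Fin m × Fin m => Eb st.1 st.2)
    (Finset.mem_univ (s, t)))
  let Y : Matrix (Fin m) (Fin m) S₁ := Matrix.of y
  have hY : Y.map g₁ = Eb := Matrix.ext hy
  obtain ⟨S, _, _, _, σ, g, ψ, hσ, hg, hψ⟩ := Groth.L05.Hfp.exists_nbhd_kill_finset hB hσ₁ g₁
    (Finset.univ.image fun st : Fin m × Fin m => (Y * Y - Y) st.1 st.2) (by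
      intro x hx
      obtain ⟨⟨s, t⟩, -, rfl⟩ := Finset.mem_image.mp hx
      show g₁ ((Y * Y - Y) s t) = 0
      have := congrFun (congrFun (show (Y * Y - Y).map g₁ = 0 by
        rw [Matrix.map_sub _ (map_sub g₁), Matrix.map_mul, hY, hEb, sub_self]) s) t
      exact this)
  refine ⟨S, inferInstance, inferInstance, σ, Y.map ψ, inferInstance, hσ, ?_, fun s t => ?_⟩
  · rw [← Matrix.map_mul, ← sub_eq_zero, ← Matrix.map_sub _ (map_sub ψ)]
    exact Matrix.ext fun s t => hψ _ (Finset.mem_image_of_mem (fun st : Fin m × Fin m => (Y * Y - Y) st.1 st.2)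
      (Finset.mem_univ (s, t)))
  · let τ : B →ₐ[P] P ⧸ I := ε P (P ⧸ I)
    have hτI : ∀ x ∈ I.map (algebraMap P B), τ x = 0 := fun x hx => by
      have : x ∈ RingHom.ker τ := (ker_ε_pair P I).ge hx
      exact this
    have hτg : ∀ x, τ (g x) = σ x := fun x => by
      obtain ⟨p, hp⟩ := Ideal.Quotient.mk_surjective (σ x)
      have hmem : x - algebraMap P S p ∈ I.map (algebraMap P S) := by
        rw [← hσ, RingHom.mem_ker, map_sub, σ.commutes, ← hp]
        exact sub_self _
      have h0 : τ (g (x - algebraMap P S p)) = 0 := hτI _ (by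
        have := Ideal.mem_map_of_mem g.toRingHom hmem
        rwa [Ideal.map_map, show g.toRingHom.comp (algebraMap P S) = algebraMap P B from g.comp_algebraMap] at this)
      rw [map_sub, map_sub, g.commutes, τ.commutes, sub_eq_zero] at h0
      rw [h0, ← hp]
      rfl
    show σ (ψ (y s t)) = _
    rw [← hτg, ← AlgHom.comp_apply g, hg, show g₁ (y s t) = Eb s t from hy s t]
    have := hτI _ (hEe s t)
    rw [map_sub, sub_eq_zero] at this
    exact this.trans (τ.commutes _)

end Groth.L05.SmoothLift
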