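import Groth.Agent.L05.SmoothLift.Core
import Groth.Agent.L05.SmoothLift.IdemNbhd
import Mathlib.RingTheory.Kaehler.Polynomial
import Mathlib.RingTheory.Polynomial.Basic
import Mathlib.RingTheory.Smooth.StandardSmoothOfFree

/-!
# Lifting smooth algebras along a surjection
-/

set_option autoImplicit false

universe u

open MvPolynomial KaehlerDifferential TensorProduct

namespace Groth.L05.SmoothLift

/-- A finitely presented formally smooth algebra gives a projection on its relations. -/
theorem exists_split_matrix {R A : Type u} [CommRing R] [CommRing A] [Algebra R A] [Algebra.FormallySmooth R A]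
    {n m : ℕ} (π : MvPolynomial (Fin n) R →ₐ[R] A) (hπ : Function.Surjective π)
    (f : Fin m → MvPolynomial (Fin n) R) (hf : RingHom.ker π = Ideal.span (Set.range f)) :
    ∃ N : Fin n → Fin m → MvPolynomial (Fin n) R, ∀ s,
      f s - ∑ t, (∑ i, pderiv i (f s) * N i t) * f t ∈ Ideal.span (Set.range f) ^ 2 := by
  classical
  letI : Algebra (MvPolynomial (Fin n) R) A := π.toRingHom.toAlgebra
  haveI : IsScalarTower R (MvPolynomial (Fin n) R) A :=
    IsScalarTower.of_algebraMap_eq fun r => (π.commutes r).symm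
  obtain ⟨l, hl⟩ := (Algebra.FormallySmooth.iff_split_injection (R := R) (P := MvPolynomial (Fin n) R)
    (A := A) hπ).mp inferInstance
  let J := RingHom.ker (algebraMap (MvPolynomial (Fin n) R) A)
  have hJ : J = Ideal.span (Set.range f) := hf
  have hmem : ∀ t, f t ∈ J := fun t => hJ ▸ Ideal.subset_span ⟨t, rfl⟩
  let g : Fin m → J.Cotangent := fun t => J.toCotangent ⟨f t, hmem t⟩
  have hgen : ∀ z : J.Cotangent, ∃ a : Fin m → MvPolynomial (Fin n) R, ∑ t, a t • g t = z := fun z => by
    obtain ⟨⟨x, hx⟩, rfl⟩ := J.toCotangent_surjective z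
    obtain ⟨a, ha⟩ := Ideal.mem_span_range_iff_exists_fun.mp (hJ.le hx)
    refine ⟨a, ?_⟩
    simp only [g, ← map_smul, ← map_sum]
    congr 1
    exact Subtype.ext (by rw [AddSubmonoidClass.coe_finsetSum]; simpa using ha)
  choose N hN using fun i : Fin n => hgen (l ((1 : A) ⊗ₜ D R _ (X i)))
  refine ⟨N, fun s => ?_⟩
  have h1 : g s = ∑ i, pderiv i (f s) • l ((1 : A) ⊗ₜ D R _ (X i)) := by
    have e1 := (LinearMap.congr_fun hl (g s)).symm
    rw [LinearMap.id_apply, LinearMap.comp_apply, kerCotangentToTensor_toCotangent] at e1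
    have e2 : D R (MvPolynomial (Fin n) R) (f s) = ∑ i, pderiv i (f s) • D R _ (X i) := by
      conv_lhs => rw [← (mvPolynomialBasis R (Fin n)).sum_repr (D R _ (f s))]
      simp [mvPolynomialBasis_repr_apply, mvPolynomialBasis_apply]
    rw [e1, e2, TensorProduct.tmul_sum, map_sum]
    simp only [TensorProduct.tmul_smul, map_smul]
  rw [← hJ]
  have h2 : g s = ∑ t, (∑ i, pderiv i (f s) * N i t) • g t := by
    rw [h1]
    simp only [← hN, Finset.smul_sum, smul_smul, Finset.sum_smul]
    rw [Finset.sum_comm]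
  simp only [g, ← map_smul, ← map_sum] at h2
  have h3 := (Ideal.toCotangent_eq J).mp h2
  rw [AddSubmonoidClass.coe_finsetSum] at h3
  simpa using h3

/-- A smooth algebra over a quotient lifts to a smooth algebra. -/
theorem exists_smooth_lift {R A₀ : Type u} [CommRing R] (I : Ideal R) [CommRing A₀] [Algebra R A₀]
    [Algebra (R ⧸ I) A₀] [IsScalarTower R (R ⧸ I) A₀] [Algebra.Smooth (R ⧸ I) A₀] :
    ∃ (C : Type u) (_ : CommRing C) (_ : Algebra R C) (θ : C →ₐ[R] A₀), Algebra.Smooth R C ∧
      Function.Surjective θ ∧ RingHom.ker θ = I.map (algebraMap R C) := by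
  classical
  haveI : Algebra.FinitePresentation (R ⧸ I) A₀ := inferInstance
  obtain ⟨n, π₀, hπ₀, sf, hsf⟩ := Algebra.FinitePresentation.out (R := R ⧸ I) (A := A₀)
  obtain ⟨m, f, hf⟩ : ∃ (m : ℕ) (f : Fin m → MvPolynomial (Fin n) (R ⧸ I)),
      RingHom.ker π₀ = Ideal.span (Set.range f) := by
    refine ⟨_, fun i => (sf.equivFin.symm i : MvPolynomial (Fin n) (R ⧸ I)), ?_⟩
    rw [show Set.range (fun i => (sf.equivFin.symm i : MvPolynomial (Fin n) (R ⧸ I))) = ↑sf by
      rw [← Function.comp_def (Subtype.val), sf.equivFin.symm.surjective.range_comp, Subtype.range_coe]]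
    exact hsf.symm
  obtain ⟨N₀, hN₀⟩ := exists_split_matrix π₀ hπ₀ f hf
  let P := MvPolynomial (Fin n) R
  let q : P →+* MvPolynomial (Fin n) (R ⧸ I) := MvPolynomial.map (Ideal.Quotient.mk I)
  have hq : Function.Surjective q := MvPolynomial.map_surjective _ Ideal.Quotient.mk_surjective
  have hqk : RingHom.ker q = I.map (algebraMap R P) := by
    rw [MvPolynomial.ker_map, Ideal.mk_ker]; rfl
  choose F hF using fun s => hq (f s)
  choose N hN using fun i t => hq (N₀ i t)
  let π : P →ₐ[R] A₀ :=
    { π₀.toRingHom.comp q with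
      commutes' := fun r => by
        show π₀ (q (C r)) = _
        rw [show q (C r) = C (Ideal.Quotient.mk I r) from map_C _ r,
          IsScalarTower.algebraMap_apply R (R ⧸ I) A₀]
        exact π₀.commutes _ }
  have hπ : Function.Surjective π := hπ₀.comp hq
  have hπk : RingHom.ker π = I.map (algebraMap R P) ⊔ Ideal.span (Set.range F) := by
    have h1 : RingHom.ker π = ((Ideal.span (Set.range F)).map q).comap q := by
      rw [Ideal.map_span, ← Set.range_comp, show q ∘ F = f from funext hF, ← hf]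
      rfl
    rw [h1, Ideal.comap_map_of_surjective _ hq, ← RingHom.ker_eq_comap_bot, hqk, sup_comm]
  have hdiff : ∀ (x : P) (i : Fin n), q (pderiv i x) = pderiv i (q x) := fun x i => (pderiv_map).symm
  have hrel : ∀ s, F s - ∑ t, (∑ i, pderiv i (F s) * N i t) * F t ∈
      I.map (algebraMap R P) ⊔ Ideal.span (Set.range F) ^ 2 := fun s => by
    rw [← hqk, sup_comm, RingHom.ker_eq_comap_bot, ← Ideal.comap_map_of_surjective _ hq, Ideal.mem_comap,
      Ideal.map_pow, Ideal.map_span, ← Set.range_comp, show q ∘ F = f from funext hF]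
    simp only [map_sub, map_sum, map_mul, hF, hN, hdiff]
    exact hN₀ s
  let e₀ : Matrix (Fin m) (Fin m) P := Matrix.of fun s t => ∑ i, pderiv i (F s) * N i t
  have hπF : ∀ t, π (F t) = 0 := fun t =>
    RingHom.mem_ker.mp (hπk ▸ Ideal.mem_sup_right (Ideal.subset_span ⟨t, rfl⟩))
  have hsq : ∀ x ∈ I.map (algebraMap R P) ⊔ Ideal.span (Set.range F) ^ 2, ∀ i, π (pderiv i x) = 0 := by
    intro x hx i
    obtain ⟨a, ha, b, hb, rfl⟩ := Submodule.mem_sup.mp hx
    rw [map_add, map_add]
    have h1 : π (pderiv i a) = 0 := by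
      show π₀ (q (pderiv i a)) = 0
      rw [hdiff, show q a = 0 from RingHom.mem_ker.mp (hqk ▸ ha), map_zero, map_zero]
    have h2 : π (pderiv i b) = 0 := by
      rw [pow_two] at hb
      refine Submodule.mul_induction_on hb (fun x hx y hy => ?_) (fun x y hx hy => by
        rw [map_add, map_add, hx, hy, add_zero])
      have hz : ∀ z ∈ Ideal.span (Set.range F), π z = 0 := fun z hz =>
        RingHom.mem_ker.mp (hπk ▸ Ideal.mem_sup_right hz)
      rw [Derivation.leibniz, smul_eq_mul, smul_eq_mul, map_add, map_mul, map_mul, hz x hx, hz y hy,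
        zero_mul, zero_mul, add_zero]
    rw [h1, h2, add_zero]
  have hEM : ∀ s i, ∑ t, π (e₀ s t) * π (pderiv i (F t)) = π (pderiv i (F s)) := by
    intro s i
    have h := hsq _ (hrel s) i
    rw [map_sub, map_sub, sub_eq_zero] at h
    rw [h, map_sum, map_sum]
    refine Finset.sum_congr rfl fun t _ => ?_
    rw [Derivation.leibniz, smul_eq_mul, smul_eq_mul, map_add, map_mul, map_mul, hπF t, zero_mul, add_zero]
    rfl
  have he : ∀ s t, (e₀ * e₀ - e₀) s t ∈ RingHom.ker π := by
    intro s t
    rw [RingHom.mem_ker, Matrix.sub_apply, map_sub, sub_eq_zero, Matrix.mul_apply, map_sum]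
    simp only [e₀, Matrix.of_apply, map_mul, map_sum, Finset.mul_sum]
    rw [Finset.sum_comm]
    refine Finset.sum_congr rfl fun j _ => ?_
    rw [← hEM s j, Finset.sum_mul]
    refine Finset.sum_congr rfl fun k _ => ?_
    simp only [e₀, Matrix.of_apply, map_sum, map_mul]
    ring
  obtain ⟨S, _, _, σS, E, _, hσS, hE, hσE⟩ := exists_idempotent_nbhd (RingHom.ker π) e₀ he
  letI : Algebra R S := ((algebraMap P S).comp (algebraMap R P)).toAlgebra
  haveI : IsScalarTower R P S := IsScalarTower.of_algebraMap_eq' rfl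
  haveI : Algebra.FormallyEtale P S := Algebra.Etale.formallyEtale
  haveI : Algebra.FormallySmooth R S := Algebra.FormallySmooth.comp R P S
  haveI : Algebra.FinitePresentation R S := Algebra.FinitePresentation.trans R P S
  let ι₀ : (P ⧸ RingHom.ker π) →ₐ[R] A₀ := Ideal.Quotient.liftₐ _ π fun x hx => hx
  let σ : S →ₐ[R] A₀ := ι₀.comp (σS.restrictScalars R)
  have hσp : ∀ p, σ (algebraMap P S p) = π p := fun p => by
    show ι₀ (σS (algebraMap P S p)) = π p
    rw [σS.commutes]
    rfl
  have hσsurj : Function.Surjective σ := fun a => by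
    obtain ⟨p, rfl⟩ := hπ a
    exact ⟨_, hσp p⟩
  have hι : Function.Injective ι₀ := fun a b h => by
    obtain ⟨a, rfl⟩ := Ideal.Quotient.mk_surjective a
    obtain ⟨b, rfl⟩ := Ideal.Quotient.mk_surjective b
    exact Ideal.Quotient.eq.mpr (by rw [RingHom.mem_ker, map_sub, sub_eq_zero]; exact h)
  let F' : Fin m → S := fun s => algebraMap P S (F s)
  have hspanF : (Ideal.span (Set.range F)).map (algebraMap P S) = Ideal.span (Set.range F') := by
    rw [Ideal.map_span, ← Set.range_comp]; rfl
  have hkσ : RingHom.ker σ = I.map (algebraMap R S) ⊔ Ideal.span (Set.range F') := by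
    rw [show RingHom.ker σ = RingHom.ker σS from Ideal.ext fun x => map_eq_zero_iff ι₀ hι, hσS, hπk,
      Ideal.map_sup, Ideal.map_map, ← IsScalarTower.algebraMap_eq, hspanF]
  obtain ⟨b, hb⟩ := exists_basis_etale (Q := S) (mvPolynomialBasis R (Fin n))
  have hrepr : ∀ s i, b.repr (D R S (F' s)) i = algebraMap P S (pderiv i (F s)) := fun s i => by
    rw [show F' s = algebraMap P S (F s) from rfl, hb, mvPolynomialBasis_repr_apply]
  have hσE' : ∀ s t, σ (E s t) = π (e₀ s t) := fun s t => by
    show ι₀ (σS (E s t)) = _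
    rw [hσE]
    rfl
  refine exists_smooth_quotient I b F' σ hσsurj hkσ E hE (Matrix.of fun i t => algebraMap P S (N i t))
    (fun s t => ?_) (fun s i => ?_) (fun s => ?_)
  · simp only [hrepr, Matrix.of_apply, ← map_mul, ← map_sum, hσp, hσE']
    rfl
  · simp only [hrepr, hσp, hσE']
    exact hEM s i
  · have h1 := Ideal.mem_map_of_mem (algebraMap P S) (hrel s)
    rw [Ideal.map_sup, Ideal.map_map, ← IsScalarTower.algebraMap_eq, Ideal.map_pow, hspanF, map_sub, map_sum] at h1
    have h2 : ∑ t, (E s t - algebraMap P S (e₀ s t)) * F' t ∈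
        I.map (algebraMap R S) ⊔ Ideal.span (Set.range F') ^ 2 := sum_mem fun t _ => by
      have hx : E s t - algebraMap P S (e₀ s t) ∈ RingHom.ker σ := by
        rw [RingHom.mem_ker, map_sub, hσE', hσp, sub_self]
      rw [hkσ] at hx
      obtain ⟨a, ha, c, hc, hac⟩ := Submodule.mem_sup.mp hx
      rw [← hac, add_mul]
      exact add_mem (Ideal.mem_sup_left (Ideal.mul_mem_right _ _ ha)) (Ideal.mem_sup_right (by
        rw [pow_two]; exact Ideal.mul_mem_mul hc (Ideal.subset_span ⟨t, rfl⟩)))
    have h3 := sub_mem h1 h2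
    convert h3 using 1
    simp only [map_mul, sub_mul, Finset.sum_sub_distrib, F', e₀, Matrix.of_apply]
    ring

end Groth.L05.SmoothLift
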